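import Groth.Agent.Lib.DPerf.Tilde
import Groth.Prelude.Def_KLin

/-! Linearity of restriction and of tilde over a base ring. -/

set_option autoImplicit false
set_option linter.unusedSectionVars false
set_option linter.style.haveILetI false
set_option backward.isDefEq.respectTransparency false
set_option backward.isDefEq.respectTransparency.types false

universe u

open CategoryTheory CategoryTheory.Limits AlgebraicGeometry

attribute [local instance] HasDerivedCategory.standard

namespace Groth.Agent.DKill9

variable (A : Type u) [CommRing A] {X Z : Scheme.{u}} [X.Over (Spec (CommRingCat.of A))]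
  [Z.Over (Spec (CommRingCat.of A))]

theorem linear_restrict (j : Z ⟶ X) [IsOpenImmersion j] [j.IsOver (Spec (CommRingCat.of A))] :
    (Scheme.Modules.restrictFunctor j).Linear A := by
  refine (Functor.linear_iff A _).mpr fun M a => ?_
  let adj := Scheme.Modules.restrictAdjunction j
  refine (adj.homEquiv _ _).injective ?_
  rw [adj.homEquiv_unit, adj.homEquiv_unit, ← Functor.comp_map, ← adj.unit.naturality, Functor.id_map,
    Functor.map_smul, CategoryTheory.Functor.map_id]
  erw [Linear.smul_comp, Category.id_comp, Linear.comp_smul, Category.comp_id]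

theorem resD_map_smul (j : Z ⟶ X) [IsOpenImmersion j] [j.IsOver (Spec (CommRingCat.of A))] {K L : DCoh.D X}
    (f : K ⟶ L) (a : A) : (DPerf.resD j).map (a • f) = a • (DPerf.resD j).map f := by
  haveI := linear_restrict A j
  exact Functor.map_smul _ _ _

section Spec

variable {A} (R : CommRingCat.{u}) [(Spec R).Over (Spec (CommRingCat.of A))]

/-- The image of a scalar in an affine ring. -/
noncomputable def scal (a : A) : R :=
  (Scheme.ΓSpecIso R).hom.hom (Coh.toGlobal (Spec R ↘ Spec (CommRingCat.of A)) a)

theorem smulMod_app_top (N : (Spec R).Modules) (a : A) :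
    (moduleSpecΓFunctor (R := R)).map (Formal.smulMod A N a) =
      scal R a • 𝟙 ((moduleSpecΓFunctor (R := R)).obj N) := by
  ext x
  change (Formal.smulModΓ N (Coh.toGlobal (Spec R ↘ Spec (CommRingCat.of A)) a)).app ⊤ x = scal R a • x
  rw [KLin.smulModΓ_app_apply]
  refine Eq.trans ?_ (Scheme.Modules.smul_Spec_def (scal R a) x).symm
  have he : ((Scheme.ΓSpecIso R).inv.hom (scal R a) : Γ(Spec R, ⊤)) =
      Coh.toGlobal (Spec R ↘ Spec (CommRingCat.of A)) a :=
    (Scheme.ΓSpecIso R).commRingCatIsoToRingEquiv.symm_apply_apply _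
  rw [he]
  rfl

theorem tilde_map_smul_id (N : ModuleCat.{u} R) (a : A) :
    (tilde.functor R).map (scal R a • 𝟙 N) = Formal.smulMod A ((tilde.functor R).obj N) a := by
  let adj := tilde.adjunction (R := R)
  refine (adj.homEquiv _ _).injective ?_
  rw [adj.homEquiv_unit, adj.homEquiv_unit, ← Functor.comp_map, ← adj.unit.naturality, Functor.id_map,
    smulMod_app_top]
  erw [Linear.smul_comp, Category.id_comp, Linear.comp_smul, Category.comp_id]

theorem tildeDD_map_smul_id (M : DerivedCategory (ModuleCat.{u} R)) (a : A) :
    (DPerf.tildeDD R).map (scal R a • 𝟙 M) = a • 𝟙 ((DPerf.tildeDD R).obj M) := by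
  let C := DerivedCategory.Q.objPreimage M
  let e : DerivedCategory.Q.obj C ≅ M := DerivedCategory.Q.objObjPreimageIso M
  let c := (tilde.functor R).mapDerivedCategoryFactors.app C
  have h1 : (DPerf.tildeDD R).map (scal R a • 𝟙 (DerivedCategory.Q.obj C)) = a • 𝟙 _ := by
    have hc : ((tilde.functor R).mapHomologicalComplex (ComplexShape.up ℤ)).map (scal R a • 𝟙 C) = a • 𝟙 _ :=
      HomologicalComplex.hom_ext _ _ fun i => (tilde_map_smul_id R (C.X i) a).trans (KLin.smul_id _ a).symm
    have hn := (tilde.functor R).mapDerivedCategoryFactors.hom.naturality (scal R a • 𝟙 C)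
    simp only [Functor.comp_map, hc] at hn
    simp only [Functor.map_smul, CategoryTheory.Functor.map_id, Linear.comp_smul, Category.comp_id] at hn
    rw [← cancel_mono c.hom]
    refine hn.trans (Eq.trans (congrArg (a • ·) ?_) (Linear.smul_comp ..).symm)
    exact (Category.comp_id _).trans (Category.id_comp _).symm
  have h2 : scal R a • 𝟙 M = e.inv ≫ (scal R a • 𝟙 (DerivedCategory.Q.obj C)) ≫ e.hom := by simp
  rw [h2, Functor.map_comp, Functor.map_comp, h1]
  simp [← Functor.map_comp]

end Spec

end Groth.Agent.DKill9
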