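import Groth.Agent.Lib.DKill9.Linear
import Groth.Agent.Lib.DGen9.Gen
import Groth.Agent.Lib.DGam9.Basic
import Groth.Prelude.Def_CohB1

/-! A power of a function kills maps from perfect objects into objects supported on its zero locus. -/

set_option autoImplicit false
set_option linter.unusedSectionVars false
set_option linter.style.haveILetI false
set_option backward.isDefEq.respectTransparency false
set_option backward.isDefEq.respectTransparency.types false
set_option maxHeartbeats 800000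

universe u

open CategoryTheory CategoryTheory.Limits AlgebraicGeometry Pretriangulated

attribute [local instance] HasDerivedCategory.standard

namespace Groth.Agent.DKill9

attribute [local instance] DBC9.hasRpush

open DGen9

variable (A : Type u) [CommRing A]

local notation "SA" => Spec (CommRingCat.of A)

/-- The zero locus of a scalar. -/
def zeroA (X : Scheme.{u}) [X.Over SA] (a : A) : Set X :=
  X.zeroLocus (U := ⊤) {Coh.toGlobal (X ↘ SA) a}

theorem mem_zeroA {X : Scheme.{u}} [X.Over SA] (a : A) (x : X) :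
    x ∈ zeroA A X a ↔ x ∉ X.basicOpen (Coh.toGlobal (X ↘ SA) a) := by
  rw [zeroA, Scheme.mem_zeroLocus_iff]
  simp

theorem preimage_zeroA {X Z : Scheme.{u}} [X.Over SA] [Z.Over SA] (j : Z ⟶ X) [j.IsOver SA] (a : A) :
    j ⁻¹' zeroA A X a = zeroA A Z a := by
  ext z
  rw [Set.mem_preimage, mem_zeroA, mem_zeroA,
    show Coh.toGlobal (Z ↘ SA) a = j.appTop (Coh.toGlobal (X ↘ SA) a) by
      rw [← KLin.toGlobal_comp j (X ↘ SA) a, comp_over j SA]]
  exact not_congr (Iff.of_eq (congrArg (fun (W : Z.Opens) => z ∈ W) (Scheme.preimage_basicOpen_top j _)))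

/-- Maps from perfect objects into supported objects are killed by a power of the scalar. -/
def Kills (X : Scheme.{u}) : Prop :=
  ∀ o : X.Over SA, letI := o; ∀ (a : A) (E E' : DCoh.D X), DCoh.IsPerfect E → DCoh.IsQCohD E' → SuppOn (zeroA A X a) E' →
    ∀ α : E ⟶ E', ∃ n : ℕ, (a ^ n) • α = 0

theorem kills_affine (X : Scheme.{u}) [IsAffine X] : Kills A X := fun o => by
  letI := o
  intro a E E' hE hE' hT α
  let e := X.isoSpec
  letI : (Spec Γ(X, ⊤)).Over SA := ⟨e.inv ≫ (X ↘ SA)⟩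
  haveI : e.hom.IsOver SA := ⟨e.hom_inv_id_assoc _⟩
  let r : A → Γ(X, ⊤) := fun b => scal (A := A) Γ(X, ⊤) b
  obtain ⟨M, hM, ⟨iM⟩⟩ := exists_perfect_tX e (isQCohD_of_isPerfect hE) hE
  obtain ⟨N, ⟨iN⟩⟩ := exists_tX_iso e hE'
  obtain ⟨β, (hβ : (tX e).map β = iM.hom ≫ α ≫ iN.inv)⟩ := (bijective_tX e M N).2 (iM.hom ≫ α ≫ iN.inv)
  have hsupp : Supp (r a) N := (supp_iff_support (r a) N).2 fun i y hy hsup => by
    obtain ⟨x, rfl⟩ := e.hom.homeomorph.surjective y
    have hx : x ∉ zeroA A X a := by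
      rw [← preimage_zeroA A e.hom a, Set.mem_preimage, mem_zeroA, not_not]
      have hb : M1.bo (R := Γ(X, ⊤)) (r a) =
          (Spec Γ(X, ⊤)).basicOpen (Coh.toGlobal (Spec Γ(X, ⊤) ↘ SA) a) := by
        refine (basicOpen_eq_of_affine (r a)).symm.trans (congrArg _ ?_)
        exact (Scheme.ΓSpecIso Γ(X, ⊤)).commRingCatIsoToRingEquiv.symm_apply_apply _
      exact hb ▸ hy
    exact hsup (AddCommGrpCat.subsingleton_of_isZero ((RHom.stalkZero_restrict_iff e.hom x _).1
      (RHom.stalkZero_iso (DPerf.hdResIso e.hom _ i)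
        (RHom.stalkZero_iso ((DerivedCategory.homologyFunctor X.Modules i).mapIso iN).symm
          (stalkZero_of_suppOn hT hx i)))))
  obtain ⟨n, hn⟩ := kill hsupp hM β
  refine ⟨n, ?_⟩
  have hr : r a ^ n = r (a ^ n) := by
    simp only [r, scal, map_pow]
  have h1 : (tX e).map (r (a ^ n) • 𝟙 M) = (a ^ n) • 𝟙 ((tX e).obj M) := by
    show (DPerf.resD e.hom).map ((DPerf.tildeDD Γ(X, ⊤)).map _) = _
    rw [tildeDD_map_smul_id, resD_map_smul, CategoryTheory.Functor.map_id]
    rfl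
  have h := congrArg (tX e).map hn
  rw [hr, ← Category.id_comp β, ← Linear.smul_comp, Functor.map_comp, h1, hβ, Functor.map_zero,
    Linear.smul_comp, Category.id_comp, ← Linear.comp_smul, ← Linear.smul_comp] at h
  rw [← cancel_epi iM.hom, ← cancel_mono iN.inv, comp_zero, zero_comp, Category.assoc]
  exact h

theorem kills_of_iso {Y Y' : Scheme.{u}} (e : Y ≅ Y') (h : Kills A Y) : Kills A Y' := fun o => by
  letI := o
  intro a E E' hE hE' hT α
  letI : Y.Over SA := ⟨e.hom ≫ (Y' ↘ SA)⟩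
  haveI : e.hom.IsOver SA := ⟨rfl⟩
  obtain ⟨n, hn⟩ := h ‹_› a _ _ (isPerfect_resD e.hom hE) (DQC.isQCohD_resD e.hom hE')
    (by rw [← preimage_zeroA A e.hom a]; exact suppOn_resD e.hom hT) ((DPerf.resD e.hom).map α)
  haveI : (DPerf.resD e.hom).Faithful := inferInstanceAs ((resEquiv e).functor.Faithful)
  exact ⟨n, (DPerf.resD e.hom).map_injective (by rw [resD_map_smul, hn, Functor.map_zero])⟩

theorem kills_union {X : Scheme.{u}} [QuasiSeparatedSpace X] {U V : X.Opens} (hU : IsCompact (U : Set X))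
    (hV : IsAffineOpen V) (hUV : U ⊔ V = ⊤) (hk : Kills A (U : Scheme.{u})) : Kills A X := fun o => by
  letI := o
  intro a E E' hE hE' hT α
  haveI : IsAffine (V : Scheme.{u}) := hV
  haveI := quasiCompact_ι hU
  letI : (U : Scheme.{u}).Over SA := ⟨U.ι ≫ (X ↘ SA)⟩
  haveI : U.ι.IsOver SA := ⟨rfl⟩
  letI : (V : Scheme.{u}).Over SA := ⟨V.ι ≫ (X ↘ SA)⟩
  haveI : V.ι.IsOver SA := ⟨rfl⟩
  obtain ⟨n, hn⟩ := hk ‹_› a _ _ (isPerfect_resD U.ι hE) (DQC.isQCohD_resD U.ι hE')
    (by rw [← preimage_zeroA A U.ι a]; exact suppOn_resD U.ι hT) ((DPerf.resD U.ι).map α)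
  let φ := (a ^ n) • α
  have hφ : (DPerf.resD U.ι).map φ = 0 := by rw [resD_map_smul]; exact hn
  let adjU := adjR U.ι
  obtain ⟨B, b, c, hB⟩ := distinguished_cocone_triangle₁ (adjU.unit.app E')
  haveI := isIso_resD_unit U.ι E'
  have hBq : DCoh.IsQCohD B := isQCohD_obj₁ _ hB hE' (isQCohD_rpushι hU (DQC.isQCohD_resD U.ι hE'))
  have hTc : IsClosed (zeroA A X a) := Scheme.zeroLocus_isClosed _ _
  have hBT : SuppOn (zeroA A X a) B := suppOn_triangle₁ _ hB hT (suppOn_rpush U.ι hTc (suppOn_resD U.ι hT))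
  have hB0 : SuppOn ((U : Set X)ᶜ) B := by
    refine suppOn_mono (le_of_eq ?_) (suppOn_of_isZero_resD U.ι
      ((Triangle.isZero₁_iff_isIso₂ _ ((DPerf.resD U.ι).map_distinguished _ hB)).2
        (inferInstanceAs (IsIso ((DPerf.resD U.ι).map (adjU.unit.app E'))))))
    erw [Scheme.Opens.range_ι]
  have hV' : (U : Set X)ᶜ ⊆ (V : Set X) := fun x hx => by
    have h : x ∈ U ⊔ V := hUV ▸ trivial
    exact Or.resolve_left h hx
  obtain ⟨eB⟩ := DMV.nonempty_iso_rpush_restrict V _ U.2.isClosed_compl hV' B hB0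
  have hex : ∃ g : E ⟶ B, φ = g ≫ b := Triangle.coyoneda_exact₂ _ hB φ (by
    show φ ≫ adjU.unit.app E' = 0
    refine (adjU.homEquiv _ _).symm.injective ?_
    rw [adjU.homEquiv_counit, adjU.homEquiv_counit, Functor.map_comp, hφ, zero_comp, zero_comp,
      Functor.map_zero, zero_comp])
  obtain ⟨g, hg⟩ := hex
  let adjV := adjR V.ι
  obtain ⟨m, hm⟩ := kills_affine A (V : Scheme.{u}) ‹_› a _ _ (isPerfect_resD V.ι hE) (DQC.isQCohD_resD V.ι hBq)
    (by rw [← preimage_zeroA A V.ι a]; exact suppOn_resD V.ι hBT) ((adjV.homEquiv _ _).symm (g ≫ eB.hom))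
  refine ⟨m + n, ?_⟩
  have hg0 : (a ^ m) • g = 0 := by
    rw [← cancel_mono eB.hom, zero_comp]
    refine (adjV.homEquiv _ _).symm.injective ?_
    rw [Linear.smul_comp]
    refine Eq.trans ?_ (show (0 : _ ⟶ _) = _ by rw [adjV.homEquiv_counit, Functor.map_zero, zero_comp])
    rw [← hm, adjV.homEquiv_counit, adjV.homEquiv_counit, resD_map_smul, Linear.smul_comp]
  rw [pow_add, mul_smul]
  change (a ^ m) • φ = 0
  rw [hg, ← Linear.smul_comp, hg0, zero_comp]

theorem kills (X : Scheme.{u}) [CompactSpace X] [QuasiSeparatedSpace X] : Kills A X := by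
  have key : Kills A ((⊤ : X.Opens) : Scheme.{u}) := by
    refine compact_open_induction_on (P := fun S : X.Opens => Kills A (S : Scheme.{u})) (⊤ : X.Opens)
      (by simpa using isCompact_univ) ?_ fun S hS V hg => ?_
    · haveI : IsAffine ((⊥ : X.Opens) : Scheme.{u}) := isAffineOpen_bot X
      exact kills_affine A _
    · haveI := QuasiSeparatedSpace.of_isOpenEmbedding (S ⊔ V.1).ι.isOpenEmbedding
      have hc : IsCompact ((S ⊔ V.1 : X.Opens) : Set X) := by simpa using hS.union V.2.isCompact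
      haveI := quasiCompact_ι (W := S ⊔ V.1) hc
      refine kills_union A (U := (S ⊔ V.1).ι ⁻¹ᵁ S) (V := (S ⊔ V.1).ι ⁻¹ᵁ V.1)
        (Scheme.Hom.isCompact_preimage _ (U := S) hS) (isAffineOpen_sub V.2 le_sup_right) ?_
        (kills_of_iso A (subOpenIso le_sup_left).symm hg)
      rw [← Scheme.Hom.preimage_sup, Scheme.Opens.ι_preimage_self]
  exact kills_of_iso A X.topIso key

/-- The statement with unfolded support. -/
theorem exists_pow_smul_eq_zero (X : Scheme.{u}) [X.Over SA] [CompactSpace X] [QuasiSeparatedSpace X] (a : A)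
    {E E' : DCoh.D X} (hE : DCoh.IsPerfect E) (hE'q : DCoh.IsQCohD E')
    (hsupp : ∀ i : ℤ, CohB1.support (DCoh.HD E' i) ⊆
      (X.zeroLocus (U := ⊤) {Coh.toGlobal (X ↘ SA) a} : Set X))
    (α : E ⟶ E') : ∃ n : ℕ, (a ^ n) • α = 0 := by
  have hT : SuppOn (zeroA A X a) E' := hsupp
  have h := kills A X
  have h1 := h ‹X.Over SA›
  have h2 := h1 a E E' hE hE'q
  have h3 := h2 hT
  exact h3 α

end Groth.Agent.DKill9
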